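import Groth.Agent.QA.Basic
import Groth.Prelude.Def_MoreMor
import Mathlib.AlgebraicGeometry.Limits

/-! # ind-quasi-affine schemes and morphisms -/

set_option backward.isDefEq.respectTransparency false

universe u

open CategoryTheory CategoryTheory.Limits AlgebraicGeometry TopologicalSpace

namespace Groth.Agent.QA.IndQA

variable {X Y Z : Scheme.{u}}

/-- open subschemes -/
theorem of_isOpenImmersion (h : MoreMor.IsIndQuasiAffine Y) (j : X ⟶ Y) [IsOpenImmersion j] :
    MoreMor.IsIndQuasiAffine X := by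
  intro U hU
  have hc : IsCompact ((j ''ᵁ U : Y.Opens) : Set Y) := hU.image j.continuous
  have := h _ hc
  have : CompactSpace U.toScheme := isCompact_iff_compactSpace.mp hU
  let i := IsOpenImmersion.lift (j ''ᵁ U).ι (U.ι ≫ j) (by
    rw [Scheme.Opens.range_ι]
    rintro _ ⟨z, rfl⟩
    exact ⟨z.1, z.2, rfl⟩)
  have : IsOpenImmersion i := by
    have : IsOpenImmersion (i ≫ (j ''ᵁ U).ι) := by
      rw [IsOpenImmersion.lift_fac]; infer_instance
    exact IsOpenImmersion.of_comp i (j ''ᵁ U).ι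
  exact Scheme.IsQuasiAffine.of_isImmersion i

theorem quasiSeparatedSpace (h : MoreMor.IsIndQuasiAffine X) : QuasiSeparatedSpace X := by
  refine ⟨fun A B hA hA' hB hB' ↦ ?_⟩
  let W : X.Opens := ⟨A ∪ B, hA.union hB⟩
  have := h W (hA'.union hB')
  have hq : IsCompact (W.ι ⁻¹' A ∩ W.ι ⁻¹' B) :=
    QuasiSeparatedSpace.inter_isCompact _ _ (hA.preimage W.ι.continuous)
      (W.ι.isOpenEmbedding.isEmbedding.isInducing.isCompact_preimage' hA' (by
          rw [Scheme.Opens.range_ι]; exact Set.subset_union_left))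
      (hB.preimage W.ι.continuous)
      (W.ι.isOpenEmbedding.isEmbedding.isInducing.isCompact_preimage' hB' (by
          rw [Scheme.Opens.range_ι]; exact Set.subset_union_right))
  convert hq.image W.ι.continuous using 1
  rw [← Set.preimage_inter, Set.image_preimage_eq_of_subset]
  rw [Scheme.Opens.range_ι]
  exact fun z hz ↦ Or.inl hz.1

variable {f : X ⟶ Y}

theorem of_top [IsAffine Y] (h : MoreMor.IsIndQuasiAffineHom f) : MoreMor.IsIndQuasiAffine X :=
  have := h ⊤ (isAffineOpen_top Y)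
  of_isOpenImmersion this (X.topIso.inv ≫ (X.isoOfEq (show (⊤ : X.Opens) = f ⁻¹ᵁ ⊤ from rfl)).hom)

theorem hom_of_source (h : MoreMor.IsIndQuasiAffine X) : MoreMor.IsIndQuasiAffineHom f :=
  fun _ _ ↦ of_isOpenImmersion h (f ⁻¹ᵁ _).ι

theorem quasiSeparated (h : MoreMor.IsIndQuasiAffineHom f) : QuasiSeparated f := by
  refine IsZariskiLocalAtTarget.of_forall_exists_morphismRestrict fun y ↦ ?_
  obtain ⟨V, hV, hy, -⟩ := exists_isAffineOpen_mem_and_subset (U := ⊤) (show y ∈ (⊤ : Y.Opens) from trivial)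
  have : IsAffine V.toScheme := hV
  have := quasiSeparatedSpace (h V hV)
  exact ⟨V, hy, (quasiSeparated_iff_quasiSeparatedSpace _).mpr inferInstance⟩

/-- locality on the target -/
theorem of_basicOpen
    (h : ∀ (V : Y.Opens), IsAffineOpen V → ∀ y ∈ V, ∃ s : Γ(Y, V), y ∈ Y.basicOpen s ∧
      MoreMor.IsIndQuasiAffine (f ⁻¹ᵁ Y.basicOpen s : Scheme.{u})) :
    MoreMor.IsIndQuasiAffineHom f := by
  have hqs : QuasiSeparated f := by
    refine IsZariskiLocalAtTarget.of_forall_exists_morphismRestrict fun y ↦ ?_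
    obtain ⟨V, hV, hy, -⟩ := exists_isAffineOpen_mem_and_subset (U := ⊤) (show y ∈ (⊤ : Y.Opens) from trivial)
    obtain ⟨s, hs, hs'⟩ := h V hV y hy
    have : IsAffine (Y.basicOpen s).toScheme := hV.basicOpen s
    have := quasiSeparatedSpace hs'
    exact ⟨_, hs, (quasiSeparated_iff_quasiSeparatedSpace _).mpr inferInstance⟩
  intro V hV U hU
  have : IsAffine V.toScheme := hV
  have : QuasiSeparated (f ∣_ V) := MorphismProperty.of_isPullback (P := @QuasiSeparated)
    (isPullback_morphismRestrict f V).flip hqs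
  have : CompactSpace U.toScheme := isCompact_iff_compactSpace.mp hU
  let q := U.ι ≫ f ∣_ V
  have : QuasiSeparatedSpace U.toScheme := quasiSeparatedSpace_of_quasiSeparated q
  refine QA.isQuasiAffine_of_basicOpen fun x ↦ ?_
  obtain ⟨s, hs, hs'⟩ := h V hV (q x).1 (q x).2
  let s' : Γ(V.toScheme, ⊤) := V.topIso.inv s
  have hb : V.ι ''ᵁ V.toScheme.basicOpen s' = Y.basicOpen s :=
    Scheme.Opens.ι_image_basicOpen_topIso_inv V s
  refine ⟨q.appTop s', ?_, ?_⟩
  · rw [← Scheme.preimage_basicOpen_top]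
    show q x ∈ V.toScheme.basicOpen s'
    rw [← hb] at hs
    obtain ⟨w, hw, hw'⟩ := hs
    rwa [← V.ι.isOpenEmbedding.injective hw']
  · let B := U.toScheme.basicOpen (q.appTop s')
    have hB : CompactSpace B.toScheme := isCompact_iff_compactSpace.mp
      (isRetrocompact_basicOpen _).isCompact
    let j : B.toScheme ⟶ (f ⁻¹ᵁ Y.basicOpen s).toScheme :=
      IsOpenImmersion.lift (f ⁻¹ᵁ Y.basicOpen s).ι (B.ι ≫ U.ι ≫ (f ⁻¹ᵁ V).ι) (by
        rw [Scheme.Opens.range_ι]
        rintro _ ⟨b, rfl⟩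
        show f _ ∈ Y.basicOpen s
        have hb' := b.2
        change b.1 ∈ U.toScheme.basicOpen (q.appTop s') at hb'
        rw [← Scheme.preimage_basicOpen_top] at hb'
        rw [← hb]
        exact ⟨q b.1, hb', congr($(morphismRestrict_ι f V) (U.ι b.1))⟩)
    have : IsOpenImmersion j := by
      have : IsOpenImmersion (j ≫ (f ⁻¹ᵁ Y.basicOpen s).ι) := by
        rw [IsOpenImmersion.lift_fac]; infer_instance
      exact IsOpenImmersion.of_comp j (f ⁻¹ᵁ Y.basicOpen s).ι
    have := of_isOpenImmersion hs' j ⊤ (isCompact_univ)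
    exact .of_isImmersion B.toScheme.topIso.inv

/-- base change to an affine scheme mapping into an affine open -/
theorem pullback_affine (h : MoreMor.IsIndQuasiAffineHom f) {T : Scheme.{u}} [IsAffine T]
    (t : T ⟶ Y) {V : Y.Opens} (hV : IsAffineOpen V) (ht : Set.range t ⊆ V) :
    MoreMor.IsIndQuasiAffine (pullback f t) := by
  intro U hU
  have : CompactSpace U.toScheme := isCompact_iff_compactSpace.mp hU
  have : IsAffine V.toScheme := hV
  let τ := IsOpenImmersion.lift V.ι t (by rwa [Scheme.Opens.range_ι])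
  have hτ : τ ≫ V.ι = t := IsOpenImmersion.lift_fac _ _ _
  let g : U.toScheme ⟶ (f ⁻¹ᵁ V).toScheme :=
    IsOpenImmersion.lift (f ⁻¹ᵁ V).ι (U.ι ≫ pullback.fst f t) (by
      rw [Scheme.Opens.range_ι]
      rintro _ ⟨z, rfl⟩
      show f _ ∈ V
      have := congr($(pullback.condition (f := f) (g := t)) (U.ι z))
      exact this ▸ ht ⟨_, rfl⟩)
  have hg : g ≫ (f ⁻¹ᵁ V).ι = U.ι ≫ pullback.fst f t := IsOpenImmersion.lift_fac _ _ _
  obtain ⟨K, hK, hoK, hgK, -⟩ := PrespectralSpace.exists_isCompact_and_isOpen_between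
    (isCompact_range g.continuous) isOpen_univ (Set.subset_univ _)
  let W : (f ⁻¹ᵁ V).toScheme.Opens := ⟨K, hoK⟩
  have := h V hV W hK
  let g' := IsOpenImmersion.lift W.ι g (by rwa [Scheme.Opens.range_ι])
  have hg' : g' ≫ W.ι = g := IsOpenImmersion.lift_fac _ _ _
  let P := pullback (W.ι ≫ f ∣_ V) τ
  have : IsAffineHom (pullback.fst (W.ι ≫ f ∣_ V) τ) :=
    MorphismProperty.pullback_fst _ _ inferInstance
  have : Scheme.IsQuasiAffine P := .of_isAffineHom (pullback.fst (W.ι ≫ f ∣_ V) τ)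
  let m : U.toScheme ⟶ P := pullback.lift g' (U.ι ≫ pullback.snd f t) (by
    rw [← cancel_mono V.ι, Category.assoc, Category.assoc, Category.assoc, morphismRestrict_ι,
      hτ, reassoc_of% hg', reassoc_of% hg, pullback.condition, Category.assoc])
  let n : P ⟶ pullback f t := pullback.map _ _ _ _ (W.ι ≫ (f ⁻¹ᵁ V).ι) (𝟙 T) V.ι
    (by simp only [Category.assoc, morphismRestrict_ι]) (by rw [hτ, Category.id_comp])
  have hn : IsOpenImmersion n := inferInstance
  have hmn : m ≫ n = U.ι := pullback.hom_ext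
    (by simp only [m, n, Category.assoc, pullback.lift_fst, pullback.lift_fst_assoc,
      reassoc_of% hg', hg])
    (by simp [m, n])
  have : IsOpenImmersion (m ≫ n) := by rw [hmn]; infer_instance
  have : IsOpenImmersion m := IsOpenImmersion.of_comp m n
  exact .of_isImmersion m

theorem baseChange {X' Y' : Scheme.{u}} {f' : X' ⟶ Y'} {g' : X' ⟶ X} {g : Y' ⟶ Y}
    (hc : IsPullback g' f' f g) (h : MoreMor.IsIndQuasiAffineHom f) :
    MoreMor.IsIndQuasiAffineHom f' := by
  refine of_basicOpen fun V' hV' y hy ↦ ?_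
  obtain ⟨V, hV, hyV, -⟩ := exists_isAffineOpen_mem_and_subset (U := ⊤) (show g y ∈ (⊤ : Y.Opens) from trivial)
  obtain ⟨s, hs, hys⟩ := hV'.exists_basicOpen_le (V := g ⁻¹ᵁ V) ⟨y, hyV⟩ hy
  refine ⟨s, hys, ?_⟩
  have : IsAffine (Y'.basicOpen s).toScheme := hV'.basicOpen s
  have hp := ((isPullback_morphismRestrict f' (Y'.basicOpen s)).flip.paste_horiz hc)
  exact of_isOpenImmersion (pullback_affine h _ hV (by
    rintro _ ⟨z, rfl⟩; exact hs z.2)) hp.isoPullback.hom

theorem isPullback_sigmaMap {m : ℕ} {A B : Fin m → Scheme.{u}} (q : ∀ j, A j ⟶ B j) (j : Fin m) :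
    IsPullback (Sigma.ι A j) (q j) (Limits.Sigma.map q) (Sigma.ι B j) := by
  refine (IsOpenImmersion.isPullback (q j) (Sigma.ι A j) (Sigma.ι B j) (Limits.Sigma.map q)
    (Limits.Sigma.ι_map _ j) ?_).flip
  ext z
  constructor
  · rintro ⟨w, hw⟩
    obtain ⟨k, y, rfl⟩ := (sigmaOpenCover A).exists_eq z
    change Sigma.ι B j w = Limits.Sigma.map q (Sigma.ι A k y) at hw
    rw [show Limits.Sigma.map q (Sigma.ι A k y) = Sigma.ι B k (q k y) from
      congr($(Limits.Sigma.ι_map q k) y)] at hw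
    by_cases hjk : j = k
    · subst hjk; exact ⟨y, rfl⟩
    · exact ((disjoint_opensRange_sigmaι B j k hjk).le_bot ⟨⟨w, hw⟩, _, rfl⟩).elim
  · rintro ⟨w, rfl⟩
    exact ⟨q j w, congr($(Limits.Sigma.ι_map q j) w).symm⟩

theorem sigmaMap {m : ℕ} {A B : Fin m → Scheme.{u}} (q : ∀ j, A j ⟶ B j)
    (h : ∀ j, MoreMor.IsIndQuasiAffineHom (q j)) :
    MoreMor.IsIndQuasiAffineHom (Limits.Sigma.map q) := by
  refine of_basicOpen fun V hV y hy ↦ ?_
  obtain ⟨j, b, hb⟩ := (sigmaOpenCover B).exists_eq y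
  obtain ⟨s, hs, hys⟩ := hV.exists_basicOpen_le (V := (Sigma.ι B j).opensRange) ⟨y, b, hb⟩ hy
  refine ⟨s, hys, ?_⟩
  have : IsAffine ((∐ B).basicOpen s).toScheme := hV.basicOpen s
  let t := IsOpenImmersion.lift (Sigma.ι B j) ((∐ B).basicOpen s).ι (by
    rw [Scheme.Opens.range_ι]; exact hs)
  have ht : t ≫ Sigma.ι B j = _ := IsOpenImmersion.lift_fac _ _ _
  have : IsOpenImmersion (t ≫ Sigma.ι B j) := by rw [ht]; infer_instance
  have : IsOpenImmersion t := IsOpenImmersion.of_comp t (Sigma.ι B j)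
  have hp := (IsPullback.of_hasPullback (q j) t).paste_horiz (isPullback_sigmaMap q j)
  rw [ht] at hp
  exact of_isOpenImmersion (pullback_affine (h j) t (isAffineOpen_opensRange t) subset_rfl)
    ((isPullback_morphismRestrict (Limits.Sigma.map q) _).flip.isoIsPullback _ _ hp).hom

end Groth.Agent.QA.IndQA
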