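import Groth.Prelude.Def_Mor2
import Mathlib.AlgebraicGeometry.Morphisms.QuasiSeparated

/-! # quasi-affine schemes and morphisms: basics -/

universe u
open CategoryTheory CategoryTheory.Limits AlgebraicGeometry

namespace Groth.Agent.QA

/-- A qcqs scheme covered by quasi-affine basic opens of global sections is quasi-affine. -/
theorem isQuasiAffine_of_basicOpen {X : Scheme.{u}} [CompactSpace X] [QuasiSeparatedSpace X]
    (h : ∀ x : X, ∃ s : Γ(X, ⊤), x ∈ X.basicOpen s ∧ Scheme.IsQuasiAffine (X.basicOpen s)) :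
    Scheme.IsQuasiAffine X := by
  refine .of_forall_exists_mem_basicOpen _ fun x => ?_
  obtain ⟨s, hxs, hs⟩ := h x
  set W := X.basicOpen s
  obtain ⟨_, ⟨_, ⟨r, hr, rfl⟩, rfl⟩, hxr, -⟩ :=
    (Scheme.IsQuasiAffine.isBasis_basicOpen W.toScheme).exists_subset_of_mem_open
      (Set.mem_univ (⟨x, hxs⟩ : W)) isOpen_univ
  have := isLocalization_basicOpen_of_qcqs isCompact_univ isQuasiSeparated_univ s
  obtain ⟨⟨a, m⟩, ham⟩ := IsLocalization.surj (Submonoid.powers s) (W.topIso.hom r)
  have hm : IsUnit (algebraMap Γ(X, ⊤) Γ(X, W) m) := IsLocalization.map_units _ m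
  have hWr : W.ι ''ᵁ (W.toScheme.basicOpen r) = X.basicOpen (W.topIso.hom r) :=
    (congrArg (fun t => W.ι ''ᵁ (W.toScheme.basicOpen t))
      (show W.topIso.inv (W.topIso.hom r) = r by rw [← CommRingCat.comp_apply, Iso.hom_inv_id]; rfl)).symm.trans
      (Scheme.Opens.ι_image_basicOpen_topIso_inv W (W.topIso.hom r))
  have hb : X.basicOpen (a * s) = X.basicOpen (W.topIso.hom r) := by
    have h1 : X.basicOpen (W.topIso.hom r * algebraMap Γ(X, ⊤) Γ(X, W) m) =
        X.basicOpen (algebraMap Γ(X, ⊤) Γ(X, W) a) := by rw [ham]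
    rw [Scheme.basicOpen_mul, X.basicOpen_of_isUnit hm] at h1
    rw [Scheme.basicOpen_mul, show X.basicOpen a ⊓ X.basicOpen s = W ⊓ X.basicOpen a from inf_comm _ _,
      ← Scheme.basicOpen_res X a (homOfLE le_top : W ⟶ ⊤).op]
    rw [inf_eq_left.2 (X.basicOpen_le _)] at h1
    exact h1.symm
  refine ⟨a * s, ?_, ?_⟩
  · rw [hb, ← hWr]
    exact hr.image_of_isOpenImmersion W.ι
  · rw [hb, ← hWr]
    exact ⟨⟨x, hxs⟩, hxr, rfl⟩

variable {X Y : Scheme.{u}} {f : X ⟶ Y}

lemma quasiCompact (hf : Mor2.IsQuasiAffine f) : QuasiCompact f := hf.1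

lemma isSeparated (hf : Mor2.IsQuasiAffine f) : IsSeparated f := by
  refine IsZariskiLocalAtTarget.of_forall_exists_morphismRestrict fun y ↦ ?_
  obtain ⟨V, hV, hy, -⟩ := exists_isAffineOpen_mem_and_subset (U := ⊤) (show y ∈ (⊤ : Y.Opens) from trivial)
  have := hf.2 V hV
  exact ⟨V, hy, inferInstance⟩

lemma quasiSeparated (hf : Mor2.IsQuasiAffine f) : QuasiSeparated f :=
  have := isSeparated hf
  inferInstance

set_option backward.isDefEq.respectTransparency.types false in
/-- if `f` is quasi-affine, its base change to any affine scheme is a quasi-affine scheme -/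
theorem isQuasiAffine_pullback (hf : Mor2.IsQuasiAffine f) {T : Scheme.{u}} [IsAffine T]
    (t : T ⟶ Y) : Scheme.IsQuasiAffine (pullback f t) := by
  have := quasiCompact hf
  have := quasiSeparated hf
  let q := pullback.snd f t
  have : CompactSpace (pullback f t : Scheme.{u}) := QuasiCompact.compactSpace_of_compactSpace q
  have : QuasiSeparatedSpace (pullback f t : Scheme.{u}) := quasiSeparatedSpace_of_quasiSeparated q
  refine isQuasiAffine_of_basicOpen fun x ↦ ?_
  obtain ⟨V, hV, hy, -⟩ := exists_isAffineOpen_mem_and_subset (U := ⊤)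
    (show t (q x) ∈ (⊤ : Y.Opens) from trivial)
  obtain ⟨s, hs, hxs⟩ := (isAffineOpen_top T).exists_basicOpen_le (V := t ⁻¹ᵁ V) ⟨q x, hy⟩ trivial
  refine ⟨q.appTop s, ?_, ?_⟩
  · rw [← Scheme.preimage_basicOpen_top]; exact hxs
  rw [← Scheme.preimage_basicOpen_top]
  let W := q ⁻¹ᵁ T.basicOpen s
  have := hf.2 V hV
  have : IsAffine V.toScheme := hV
  have : IsAffine (T.basicOpen s).toScheme := (isAffineOpen_top T).basicOpen s
  have hr : Set.range ((T.basicOpen s).ι ≫ t) ⊆ Set.range V.ι := by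
    rw [Scheme.Opens.range_ι]
    rintro _ ⟨a, rfl⟩
    exact hs a.2
  let τ := IsOpenImmersion.lift V.ι ((T.basicOpen s).ι ≫ t) hr
  have hτ : τ ≫ V.ι = (T.basicOpen s).ι ≫ t := IsOpenImmersion.lift_fac _ _ _
  let σ : W.toScheme ⟶ pullback (f ∣_ V) τ :=
    pullback.lift
      (IsOpenImmersion.lift (f ⁻¹ᵁ V).ι (W.ι ≫ pullback.fst f t) (by
        rw [Scheme.Opens.range_ι]
        rintro _ ⟨a, rfl⟩
        have h1 : f (pullback.fst f t a.1) = t (q a.1) := congr($(pullback.condition (f := f) (g := t)) a.1)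
        change f (pullback.fst f t a.1) ∈ V
        rw [h1]
        exact hs a.2))
      (q ∣_ T.basicOpen s) (by
        rw [← cancel_mono V.ι, Category.assoc, Category.assoc, hτ, morphismRestrict_ι,
          morphismRestrict_ι_assoc, IsOpenImmersion.lift_fac_assoc]
        simp only [Category.assoc, pullback.condition]; rfl)
  have hpb : IsPullback (W.ι ≫ pullback.fst f t) (q ∣_ T.basicOpen s) f ((T.basicOpen s).ι ≫ t) :=
    (isPullback_morphismRestrict q (T.basicOpen s)).flip.paste_horiz (IsPullback.of_hasPullback f t)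
  have hpb2 : IsPullback (pullback.fst (f ∣_ V) τ ≫ (f ⁻¹ᵁ V).ι) (pullback.snd (f ∣_ V) τ) f
      ((T.basicOpen s).ι ≫ t) := by
    rw [← hτ]
    exact (IsPullback.of_hasPullback (f ∣_ V) τ).paste_horiz (isPullback_morphismRestrict f V).flip
  have : IsIso σ := by
    have : σ = (hpb.isoIsPullback _ _ hpb2).hom := hpb2.hom_ext
      (by rw [IsPullback.isoIsPullback_hom_fst, ← Category.assoc, pullback.lift_fst,
        IsOpenImmersion.lift_fac])
      (by rw [IsPullback.isoIsPullback_hom_snd, pullback.lift_snd])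
    rw [this]; infer_instance
  have : IsAffineHom τ := inferInstance
  have : IsAffineHom (pullback.fst (f ∣_ V) τ) :=
    MorphismProperty.of_isPullback (P := @IsAffineHom) (IsPullback.of_hasPullback (f ∣_ V) τ).flip ‹IsAffineHom τ›
  have : Scheme.IsQuasiAffine (pullback (f ∣_ V) τ) := .of_isAffineHom (pullback.fst (f ∣_ V) τ)
  exact .of_isAffineHom σ

end Groth.Agent.QA
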