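import Groth.Agent.QA.IndQA
import Mathlib

/-! # ind-quasi-affine morphisms: composition, cancellation -/

set_option backward.isDefEq.respectTransparency false

universe u

open CategoryTheory CategoryTheory.Limits AlgebraicGeometry TopologicalSpace

namespace Groth.Agent.QA.IndQA

variable {X Y Z : Scheme.{u}}

theorem of_isImmersion (f : X ⟶ Y) [IsImmersion f] : MoreMor.IsIndQuasiAffineHom f := by
  intro V hV U hU
  have : IsAffine V.toScheme := hV
  have : CompactSpace U.toScheme := isCompact_iff_compactSpace.mp hU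
  have : IsImmersion (f ∣_ V) := MorphismProperty.of_isPullback (P := @IsImmersion)
    (isPullback_morphismRestrict f V).flip ‹_›
  exact .of_isImmersion (U.ι ≫ f ∣_ V)

theorem of_isQuasiAffineHom (f : X ⟶ Y) (h : MoreMor.IsQuasiAffineHom f) :
    MoreMor.IsIndQuasiAffineHom f := by
  intro V hV U hU
  have := h.2 V hV
  have : CompactSpace U.toScheme := isCompact_iff_compactSpace.mp hU
  exact .of_isImmersion U.ι

theorem of_comp (f : X ⟶ Y) (g : Y ⟶ Z) (h : MoreMor.IsIndQuasiAffineHom (f ≫ g)) :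
    MoreMor.IsIndQuasiAffineHom f := by
  refine of_basicOpen fun V hV y hy ↦ ?_
  obtain ⟨W, hW, hyW, -⟩ := exists_isAffineOpen_mem_and_subset (U := ⊤)
    (show g y ∈ (⊤ : Z.Opens) from trivial)
  obtain ⟨s, hs, hys⟩ := hV.exists_basicOpen_le (V := g ⁻¹ᵁ W) ⟨y, hyW⟩ hy
  exact ⟨s, hys, of_isOpenImmersion (h W hW) (X.homOfLE (fun x hx ↦ hs hx))⟩

theorem comp {f : X ⟶ Y} {g : Y ⟶ Z} (hf : MoreMor.IsIndQuasiAffineHom f)
    (hg : MoreMor.IsIndQuasiAffineHom g) : MoreMor.IsIndQuasiAffineHom (f ≫ g) := by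
  intro V hV U hU
  have : IsAffine V.toScheme := hV
  have := quasiSeparated hf
  have := quasiSeparated hg
  have : CompactSpace U.toScheme := isCompact_iff_compactSpace.mp hU
  have : QuasiSeparated ((f ≫ g) ∣_ V) := MorphismProperty.of_isPullback (P := @QuasiSeparated)
    (isPullback_morphismRestrict (f ≫ g) V).flip inferInstance
  have : QuasiSeparatedSpace U.toScheme :=
    quasiSeparatedSpace_of_quasiSeparated (U.ι ≫ (f ≫ g) ∣_ V)
  let k : U.toScheme ⟶ (g ⁻¹ᵁ V).toScheme := U.ι ≫ f ∣_ (g ⁻¹ᵁ V)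
  obtain ⟨K, hK, hoK, hkK, -⟩ := PrespectralSpace.exists_isCompact_and_isOpen_between
    (isCompact_range k.continuous) isOpen_univ (Set.subset_univ _)
  let W : (g ⁻¹ᵁ V).toScheme.Opens := ⟨K, hoK⟩
  have := hg V hV W hK
  let k' := IsOpenImmersion.lift W.ι k (by rwa [Scheme.Opens.range_ι])
  have hk' : k' ≫ W.ι = k := IsOpenImmersion.lift_fac _ _ _
  refine QA.isQuasiAffine_of_basicOpen fun x ↦ ?_
  obtain ⟨_, ⟨_, ⟨r, hr, rfl⟩, rfl⟩, hxr, -⟩ :=
    (Scheme.IsQuasiAffine.isBasis_basicOpen W.toScheme).exists_subset_of_mem_open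
      (Set.mem_univ (k' x)) isOpen_univ
  refine ⟨k'.appTop r, by rw [← Scheme.preimage_basicOpen_top]; exact hxr, ?_⟩
  let B := U.toScheme.basicOpen (k'.appTop r)
  have : CompactSpace B.toScheme := isCompact_iff_compactSpace.mp
    (isRetrocompact_basicOpen _).isCompact
  let A : Y.Opens := (g ⁻¹ᵁ V).ι ''ᵁ (W.ι ''ᵁ W.toScheme.basicOpen r)
  have hA : IsAffineOpen A :=
    (hr.image_of_isOpenImmersion W.ι).image_of_isOpenImmersion (g ⁻¹ᵁ V).ι
  let j : B.toScheme ⟶ (f ⁻¹ᵁ A).toScheme :=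
    IsOpenImmersion.lift (f ⁻¹ᵁ A).ι (B.ι ≫ U.ι ≫ ((f ≫ g) ⁻¹ᵁ V).ι) (by
      rw [Scheme.Opens.range_ι]
      rintro _ ⟨b, rfl⟩
      have hb := b.2
      change b.1 ∈ U.toScheme.basicOpen (k'.appTop r) at hb
      rw [← Scheme.preimage_basicOpen_top] at hb
      refine ⟨W.ι (k' b.1), ⟨k' b.1, hb, rfl⟩, ?_⟩
      have e : W.ι (k' b.1) = k b.1 := congr($hk' b.1)
      exact (congrArg _ e).trans congr($(morphismRestrict_ι f (g ⁻¹ᵁ V)) (U.ι b.1)))
  have : IsOpenImmersion j := by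
    have : IsOpenImmersion (j ≫ (f ⁻¹ᵁ A).ι) := by
      rw [IsOpenImmersion.lift_fac]; infer_instance
    exact IsOpenImmersion.of_comp j (f ⁻¹ᵁ A).ι
  have := of_isOpenImmersion (hf A hA) j ⊤ isCompact_univ
  exact .of_isImmersion B.toScheme.topIso.inv

theorem of_locallyQuasiFinite (f : X ⟶ Y) [IsSeparated f] [LocallyQuasiFinite f]
    [LocallyOfFiniteType f] : MoreMor.IsIndQuasiAffineHom f := by
  intro V hV U hU
  have : IsAffine V.toScheme := hV
  have : CompactSpace U.toScheme := isCompact_iff_compactSpace.mp hU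
  let g := U.ι ≫ f ∣_ V
  have : QuasiCompact g := by rw [quasiCompact_iff_compactSpace]; infer_instance
  have : IsAffine g.normalization := isAffine_of_isAffineHom g.fromNormalization
  exact Scheme.IsQuasiAffine.of_isImmersion g.toNormalization

end Groth.Agent.QA.IndQA
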