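import Groth.Agent.QA.Basic
import Groth.Agent.FpqcDescent.Affine
import Groth.Agent.SchDescent.QAQuot
import Mathlib.AlgebraicGeometry.ZariskisMainTheorem
import Mathlib.AlgebraicGeometry.Normalization
import Mathlib.AlgebraicGeometry.Morphisms.Descent

/-! # quasi-affine morphisms: base change, ZMT criterion, fpqc descent -/

universe u
open CategoryTheory CategoryTheory.Limits AlgebraicGeometry TensorProduct

namespace Groth.Agent.QA

variable {X Y : Scheme.{u}} {f : X ⟶ Y}

theorem baseChange (hf : Mor2.IsQuasiAffine f) {Y' : Scheme.{u}} (g : Y' ⟶ Y) :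
    Mor2.IsQuasiAffine (pullback.snd f g) := by
  have := quasiCompact hf
  refine ⟨inferInstance, fun V hV ↦ ?_⟩
  have : IsAffine V.toScheme := hV
  have := isQuasiAffine_pullback hf (V.ι ≫ g)
  let e := ((isPullback_morphismRestrict (pullback.snd f g) V).flip.paste_horiz
    (IsPullback.of_hasPullback f g)).isoPullback
  exact .of_isAffineHom e.hom

/-- separated quasi-compact locally quasi-finite morphisms of finite type are quasi-affine -/
theorem of_locallyQuasiFinite (f : X ⟶ Y) [IsSeparated f] [QuasiCompact f] [LocallyQuasiFinite f]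
    [LocallyOfFiniteType f] : Mor2.IsQuasiAffine f := by
  refine ⟨inferInstance, fun V hV ↦ ?_⟩
  have : IsAffine V.toScheme := hV
  let g := f ∣_ V
  have : QuasiCompact g := MorphismProperty.of_isPullback (P := @QuasiCompact)
    (isPullback_morphismRestrict f V).flip ‹_›
  have : CompactSpace (f ⁻¹ᵁ V).toScheme := QuasiCompact.compactSpace_of_compactSpace g
  have : IsAffine g.normalization := isAffine_of_isAffineHom g.fromNormalization
  exact Scheme.IsQuasiAffine.of_isImmersion g.toNormalization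

set_option backward.isDefEq.respectTransparency.types false in
/-- A qcqs scheme over `Spec A` which is quasi-affine after a faithfully flat base change is
quasi-affine. -/
theorem isQuasiAffine_of_flat_cover {A B : Type u} [CommRing A] [CommRing B] [Algebra A B]
    [Module.Flat A B] [Surjective (Spec.map (CommRingCat.ofHom (algebraMap A B)))]
    {W : Scheme.{u}} [CompactSpace W] [QuasiSeparatedSpace W] (sW : W ⟶ Spec (.of A))
    [Scheme.IsQuasiAffine (pullback (Spec.map (CommRingCat.ofHom (algebraMap A B))) sW)] :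
    Scheme.IsQuasiAffine W := by
  obtain ⟨dS, hdS⟩ := SchDescent.Hull.exists_fac
    (⟨Iso.refl _, Category.comp_id _⟩ : SchDescent.Hull W.toSpecΓ) sW
  let d : CommRingCat.of A ⟶ CommRingCat.of Γ(W, ⊤) := Spec.preimage dS
  algebraize [d.hom]
  let SB := Spec.map (CommRingCat.ofHom (algebraMap A B))
  let SD := Spec.map (CommRingCat.ofHom (algebraMap A Γ(W, ⊤)))
  let j : W ⟶ Spec (.of Γ(W, ⊤)) := W.toSpecΓ
  have hs : j ≫ SD = sW := by
    rw [show SD = dS from Spec.map_preimage dS]; exact hdS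
  let p₁ := Spec.map (CommRingCat.ofHom
    (Algebra.TensorProduct.includeLeft : B →ₐ[A] B ⊗[A] Γ(W, ⊤)).toRingHom)
  let p₂ := Spec.map (CommRingCat.ofHom
    (Algebra.TensorProduct.includeRight : Γ(W, ⊤) →ₐ[A] B ⊗[A] Γ(W, ⊤)).toRingHom)
  have H : IsPullback p₁ p₂ SB SD := by
    refine IsPullback.of_iso_pullback ⟨?_⟩ (pullbackSpecIso A B Γ(W, ⊤)).symm
      (pullbackSpecIso_inv_fst A B _) (pullbackSpecIso_inv_snd A B _)
    simp only [p₁, p₂, SB, SD, ← Spec.map_comp, ← CommRingCat.ofHom_comp]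
    congr 2
    exact (Algebra.TensorProduct.includeLeft : B →ₐ[A] B ⊗[A] Γ(W, ⊤)).comp_algebraMap.trans
      (Algebra.TensorProduct.includeRight : Γ(W, ⊤) →ₐ[A] B ⊗[A] Γ(W, ⊤)).comp_algebraMap.symm
  let j' := H.lift (pullback.fst SB sW) (pullback.snd SB sW ≫ j)
    (by rw [Category.assoc, hs]; exact pullback.condition)
  have h₁ : j' ≫ p₁ = pullback.fst SB sW := H.lift_fst _ _ _
  have h₂ : j' ≫ p₂ = pullback.snd SB sW ≫ j := H.lift_snd _ _ _
  obtain ⟨e, he⟩ := SchDescent.Hull.baseChange j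
    (⟨Iso.refl _, Category.comp_id _⟩ : SchDescent.Hull W.toSpecΓ) sW hs j' h₁ h₂
  have : IsOpenImmersion j' := by rw [← he]; infer_instance
  have hPB : IsPullback j' (pullback.snd SB sW) p₂ j := by
    refine IsPullback.of_right ?_ h₂ H
    rw [h₁, hs]
    exact IsPullback.of_hasPullback _ _
  have : Flat SB := (HasRingHomProperty.Spec_iff (P := @Flat)).mpr
    (RingHom.flat_algebraMap_iff.mpr ‹_›)
  have hQ : (@Surjective ⊓ @Flat ⊓ @QuasiCompact : MorphismProperty Scheme.{u}) p₂ :=
    ⟨⟨MorphismProperty.of_isPullback (P := @Surjective) H ‹Surjective SB›,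
      MorphismProperty.of_isPullback (P := @Flat) H ‹Flat SB›⟩, inferInstanceAs (QuasiCompact p₂)⟩
  have : IsOpenImmersion j :=
    MorphismProperty.of_isPullback_of_descendsAlong (P := @IsOpenImmersion) hPB hQ ‹_›
  have : IsImmersion W.toSpecΓ := inferInstanceAs (IsImmersion j)
  constructor

end Groth.Agent.QA

namespace Groth.Agent.QA

set_option backward.isDefEq.respectTransparency.types false in
theorem descendsAlong : MorphismProperty.DescendsAlong
    (fun _ _ f => Mor2.IsQuasiAffine f : MorphismProperty Scheme.{u})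
    (@Surjective ⊓ @Flat ⊓ @QuasiCompact : MorphismProperty Scheme.{u}) := by
  refine ⟨fun {P X Y Z fst snd f g} h hf hfst ↦ ?_⟩
  have := quasiCompact hfst
  have := quasiSeparated hfst
  obtain ⟨⟨hf₁, hf₂⟩, hf₃⟩ := hf
  have hf : (@Surjective ⊓ @Flat ⊓ @QuasiCompact : MorphismProperty Scheme.{u}) f :=
    ⟨⟨hf₁, hf₂⟩, hf₃⟩
  have : QuasiCompact g := MorphismProperty.of_isPullback_of_descendsAlong h hf ‹QuasiCompact fst›
  have : QuasiSeparated g :=
    MorphismProperty.of_isPullback_of_descendsAlong h hf ‹QuasiSeparated fst›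
  refine ⟨‹QuasiCompact g›, fun V hV ↦ ?_⟩
  let s := hV.fromSpec
  have : CompactSpace (pullback s f : Scheme.{u}) :=
    QuasiCompact.compactSpace_of_compactSpace (pullback.fst s f)
  have : MorphismProperty.ContainsIdentities (@IsLocalIso : MorphismProperty Scheme.{u}) :=
    IsLocalIso.instIsMultiplicativeScheme.toContainsIdentities
  have : MorphismProperty.ContainsIdentities (@Flat : MorphismProperty Scheme.{u}) :=
    Flat.instIsMultiplicativeScheme.toContainsIdentities
  obtain ⟨T, q, hq₁, hq₂, hT⟩ :=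
    (pullback s f).exists_hom_isAffine_of_isZariskiLocalAtSource
      (@IsLocalIso : MorphismProperty Scheme.{u})
  have : Flat q := IsLocalIso.le_of_isZariskiLocalAtSource @Flat _ _ _ hq₂
  let u : Spec (.of Γ(T, ⊤)) ⟶ pullback s f := T.isoSpec.inv ≫ q
  let φ : Γ(Z, V) ⟶ Γ(T, ⊤) := Spec.preimage (u ≫ pullback.fst s f)
  have hφ : Spec.map φ = u ≫ pullback.fst s f := Spec.map_preimage _
  have hsurj : Surjective (Spec.map φ) := by rw [hφ]; infer_instance
  have hflat : φ.hom.Flat := by
    have : Flat (Spec.map φ) := by rw [hφ]; infer_instance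
    exact (HasRingHomProperty.Spec_iff (P := @Flat)).mp this
  algebraize [φ.hom]
  have : Surjective (Spec.map (CommRingCat.ofHom (algebraMap Γ(Z, V) Γ(T, ⊤)))) := hsurj
  let sW := pullback.fst s g
  have : CompactSpace (pullback s g : Scheme.{u}) := QuasiCompact.compactSpace_of_compactSpace sW
  have : QuasiSeparatedSpace (pullback s g : Scheme.{u}) := quasiSeparatedSpace_of_quasiSeparated sW
  let t := u ≫ pullback.snd s f
  have := isQuasiAffine_pullback hfst t
  have h1 := (IsPullback.of_hasPullback fst t).paste_horiz h.flip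
  have h2 := (IsPullback.of_hasPullback (Spec.map φ) sW).flip.paste_horiz
    (IsPullback.of_hasPullback s g).flip
  have he : t ≫ f = Spec.map φ ≫ s := by
    simp only [t, u, hφ, Category.assoc, pullback.condition]
  rw [← he] at h2
  let e := h2.isoIsPullback _ _ h1
  have : Scheme.IsQuasiAffine (pullback (Spec.map (CommRingCat.ofHom
      (algebraMap Γ(Z, V) Γ(T, ⊤)))) sW) := .of_isAffineHom e.hom
  have := isQuasiAffine_of_flat_cover (A := Γ(Z, V)) (B := Γ(T, ⊤)) sW
  have hr : Set.range ((g ⁻¹ᵁ V).ι ≫ g) ⊆ Set.range s := by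
    rw [hV.range_fromSpec]
    rintro _ ⟨a, rfl⟩
    exact a.2
  let j : (g ⁻¹ᵁ V).toScheme ⟶ pullback s g := pullback.lift
    (IsOpenImmersion.lift s ((g ⁻¹ᵁ V).ι ≫ g) hr) (g ⁻¹ᵁ V).ι (IsOpenImmersion.lift_fac _ _ _)
  have : IsImmersion (j ≫ pullback.snd s g) := by rw [pullback.lift_snd]; infer_instance
  have : IsImmersion j := .of_comp j (pullback.snd s g)
  have : CompactSpace (g ⁻¹ᵁ V).toScheme := isCompact_iff_compactSpace.mp
    (QuasiCompact.isCompact_preimage (f := g) _ V.2 hV.isCompact)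
  exact .of_isImmersion j

end Groth.Agent.QA

namespace Groth.Agent.QA

/-- a quasi-compact immersion followed by a quasi-affine morphism is quasi-affine -/
theorem comp_immersion {X Y Z : Scheme.{u}} (i : X ⟶ Y) (g : Y ⟶ Z) [IsImmersion i] [QuasiCompact i]
    (hg : Mor2.IsQuasiAffine g) : Mor2.IsQuasiAffine (i ≫ g) := by
  have := quasiCompact hg
  refine ⟨inferInstance, fun V hV ↦ ?_⟩
  have := hg.2 V hV
  have : IsImmersion (i ∣_ (g ⁻¹ᵁ V)) :=
    MorphismProperty.of_isPullback (P := @IsImmersion) (isPullback_morphismRestrict i _).flip ‹IsImmersion i›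
  have : CompactSpace (i ⁻¹ᵁ (g ⁻¹ᵁ V)).toScheme :=
    QuasiCompact.compactSpace_of_compactSpace (i ∣_ (g ⁻¹ᵁ V))
  show Scheme.IsQuasiAffine (i ⁻¹ᵁ (g ⁻¹ᵁ V)).toScheme
  exact @Scheme.IsQuasiAffine.of_isImmersion _ _ (i ∣_ (g ⁻¹ᵁ V)) _ ‹IsImmersion (i ∣_ (g ⁻¹ᵁ V))› _

theorem comp {X Y Z : Scheme.{u}} {f : X ⟶ Y} {g : Y ⟶ Z} (hf : Mor2.IsQuasiAffine f)
    (hg : Mor2.IsQuasiAffine g) : Mor2.IsQuasiAffine (f ≫ g) := by
  have := quasiCompact hf
  have := quasiCompact hg
  have := isSeparated hf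
  refine ⟨inferInstance, fun V hV ↦ ?_⟩
  have := hg.2 V hV
  let W := g ⁻¹ᵁ V
  let fW := f ∣_ W
  have : QuasiCompact fW := MorphismProperty.of_isPullback (P := @QuasiCompact)
    (isPullback_morphismRestrict f W).flip ‹_›
  have : CompactSpace (f ⁻¹ᵁ W).toScheme := QuasiCompact.compactSpace_of_compactSpace fW
  have : QuasiSeparatedSpace (f ⁻¹ᵁ W).toScheme := quasiSeparatedSpace_of_quasiSeparated fW
  show Scheme.IsQuasiAffine (f ⁻¹ᵁ W).toScheme
  refine isQuasiAffine_of_basicOpen fun x ↦ ?_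
  obtain ⟨_, ⟨_, ⟨r, hr, rfl⟩, rfl⟩, hxr, -⟩ := (Scheme.IsQuasiAffine.isBasis_basicOpen
    W.toScheme).exists_subset_of_mem_open (Set.mem_univ (fW x)) isOpen_univ
  refine ⟨fW.appTop r, ?_, ?_⟩
  · rw [← Scheme.preimage_basicOpen_top]; exact hxr
  rw [← Scheme.preimage_basicOpen_top]
  have : IsAffine (W.toScheme.basicOpen r).toScheme := hr
  have := isQuasiAffine_pullback hf ((W.toScheme.basicOpen r).ι ≫ W.ι)
  let e := ((isPullback_morphismRestrict fW (W.toScheme.basicOpen r)).flip.paste_horiz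
    (isPullback_morphismRestrict f W).flip).isoPullback
  exact .of_isAffineHom e.hom

theorem of_comp {X Y Z : Scheme.{u}} (f : X ⟶ Y) (g : Y ⟶ Z) [QuasiSeparated g]
    (h : Mor2.IsQuasiAffine (f ≫ g)) : Mor2.IsQuasiAffine f := by
  let i : X ⟶ pullback (f ≫ g) g := pullback.lift (𝟙 X) f (Category.id_comp _)
  have hi : i ≫ pullback.snd (f ≫ g) g = f := pullback.lift_snd _ _ _
  have : QuasiSeparated (pullback.fst (f ≫ g) g) :=
    MorphismProperty.of_isPullback (P := @QuasiSeparated) (IsPullback.of_hasPullback (f ≫ g) g).flip ‹_›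
  have : IsImmersion (i ≫ pullback.fst (f ≫ g) g) := by rw [pullback.lift_fst]; infer_instance
  have : QuasiCompact (i ≫ pullback.fst (f ≫ g) g) := by rw [pullback.lift_fst]; infer_instance
  have : IsImmersion i := .of_comp i (pullback.fst (f ≫ g) g)
  have : QuasiCompact i := QuasiCompact.of_comp i (pullback.fst (f ≫ g) g)
  exact hi ▸ comp_immersion i _ (baseChange h g)

theorem of_isEmbedding {X Y : Scheme.{u}} (f : X ⟶ Y) [QuasiCompact f]
    (hf : Topology.IsEmbedding f.base) : Mor2.IsQuasiAffine f := by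
  refine ⟨inferInstance, fun V hV ↦ ?_⟩
  have : IsAffine V.toScheme := hV
  let g := f ∣_ V
  have : QuasiCompact g := MorphismProperty.of_isPullback (P := @QuasiCompact)
    (isPullback_morphismRestrict f V).flip ‹_›
  have : CompactSpace (f ⁻¹ᵁ V).toScheme := QuasiCompact.compactSpace_of_compactSpace g
  have hg : Topology.IsInducing g.base := by
    refine Topology.IsInducing.of_comp g.continuous V.ι.continuous ?_
    have : (V.ι.base ∘ g.base : (f ⁻¹ᵁ V).toScheme → Y) = f.base ∘ (f ⁻¹ᵁ V).ι.base := by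
      funext z
      exact congr($(morphismRestrict_ι f V) z)
    change Topology.IsInducing (V.ι.base ∘ g.base)
    rw [this]
    exact hf.isInducing.comp (f ⁻¹ᵁ V).ι.isOpenEmbedding.isInducing
  refine .of_forall_exists_mem_basicOpen _ fun x ↦ ?_
  obtain ⟨U, hU, hxU, -⟩ := exists_isAffineOpen_mem_and_subset (U := ⊤)
    (show x ∈ (⊤ : (f ⁻¹ᵁ V).toScheme.Opens) from trivial)
  obtain ⟨O, hO, hOU⟩ := hg.isOpen_iff.mp U.isOpen
  obtain ⟨r, hrO, hxr⟩ := (isAffineOpen_top V.toScheme).exists_basicOpen_le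
    (V := ⟨O, hO⟩) ⟨g x, show x ∈ g.base ⁻¹' O by rw [hOU]; exact hxU⟩ trivial
  refine ⟨g.appTop r, ?_, by rw [← Scheme.preimage_basicOpen_top]; exact hxr⟩
  have hle : (f ⁻¹ᵁ V).toScheme.basicOpen (g.appTop r) ≤ U := by
    rw [← Scheme.preimage_basicOpen_top]
    intro z hz
    have : g.base z ∈ O := hrO hz
    exact hOU.subset this
  have := (Scheme.basicOpen_res (f ⁻¹ᵁ V).toScheme (g.appTop r) (homOfLE (le_top : U ≤ ⊤)).op).trans
    (inf_eq_right.mpr hle)
  rw [← this]
  exact hU.basicOpen _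

end Groth.Agent.QA
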