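import Groth.Agent.TMul.AmpleBasis

/-! # affine generating loci of invertible modules on quasi-affine schemes -/

set_option autoImplicit false
set_option backward.isDefEq.respectTransparency false

universe u

open CategoryTheory CategoryTheory.Limits AlgebraicGeometry TopologicalSpace

noncomputable section

namespace TMul

variable {X : Scheme.{u}} {L : X.Modules}

theorem exists_mem_le_of_isQuasiAffine [X.IsQuasiAffine] (hL : PicF.IsInvertible L) {x : X}
    {W : X.Opens} (hx : x ∈ W) :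
    ∃ t : Coh.structureModule X ⟶ L, x ∈ CohB1.genLocus _ t ∧ CohB1.genLocus _ t ≤ W ∧
      IsAffineOpen (CohB1.genLocus _ t) := by
  obtain ⟨U, e, hxU, he⟩ := exists_isGen hL x
  obtain ⟨B, ⟨r, hr, rfl⟩, hxr, hrU⟩ :=
    Opens.isBasis_iff_nbhd.mp (Scheme.IsQuasiAffine.isBasis_basicOpen X) (show x ∈ W ⊓ U from ⟨hx, hxU⟩)
  let s : Coh.structureModule X ⟶ Coh.structureModule X :=
    homOf (L := Coh.structureModule X) r
  have hsr : CohB1.genLocus _ s = X.basicOpen r := by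
    rw [← genLocus_inf s (isGen_one ⊤) (c := r), top_inf_eq]
    rw [val_homOf, Groth.Agent.QC.res_self]
    exact (mul_one (M := Γ(X, ⊤)) r).symm
  have : L.IsQuasicoherent := isQCoh_of_isInvertible hL
  obtain ⟨n, -, t', ht'⟩ := exists_twist_extends (F := L) isInvertible_structureModule s
    (Groth.Agent.QC.res L (hsr.le.trans (hrU.trans inf_le_right)) e)
  obtain ⟨i⟩ := nonempty_powUnitIso (X := X) n
  let t := SecTwist.tmulHom (homOf t' ≫
    (PicGrp.tensorModIso (Iso.refl L) i ≪≫ SecTwist.unitorR L).hom) s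
  refine ⟨t ≫ (SecTwist.unitorR L).hom, ?_⟩
  have hloc : CohB1.genLocus _ t = X.basicOpen r := by
    rw [genLocus_tmulHom hL isInvertible_structureModule, genLocus_comp, ← hsr]
    refine inf_eq_right.mpr (le_genLocus (homOf t') ?_)
    rw [val_homOf, ht', twist_eq_tm s (one_smul _ _).symm, one_pow, one_smul]
    exact isGen_tm (he.res _) (isGen_pw (isGen_genLocus s) n)
  rw [genLocus_comp, hloc]
  exact ⟨hxr, hrU.trans inf_le_left, hr⟩

theorem exists_finite_le_of_isQuasiAffine [X.IsQuasiAffine] (hL : PicF.IsInvertible L) {Z : Set X}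
    (hZ : Z.Finite) {W : X.Opens} (hZW : Z ⊆ W) :
    ∃ s : Coh.structureModule X ⟶ L, IsAffineOpen (CohB1.genLocus L s) ∧ Z ⊆ CohB1.genLocus L s ∧
      CohB1.genLocus L s ≤ W := by
  classical
  let Z₀ : Set X := {z ∈ Z | ∀ w ∈ Z, z ⤳ w → w = z}
  have hmax : ∀ z ∈ Z, ∃ w ∈ Z₀, z ⤳ w := by
    intro z hz
    obtain ⟨w, ⟨hw, hzw⟩, hwmin⟩ := (hZ.subset (Set.sep_subset Z fun w => z ⤳ w)).exists_minimalFor
      (fun w => closure {w}) _ ⟨z, hz, specializes_rfl⟩
    refine ⟨w, ⟨hw, fun v hv hwv => ?_⟩, hzw⟩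
    exact (hwv.antisymm (specializes_iff_closure_subset.mpr
      (hwmin ⟨hv, hzw.trans hwv⟩ (specializes_iff_closure_subset.mp hwv)))).eq.symm
  have : Finite Z₀ := (hZ.subset (Set.sep_subset Z _)).to_subtype
  have := Fintype.ofFinite Z₀
  have key : ∀ z : Z₀, ∃ t : Coh.structureModule X ⟶ L,
      (z : X) ∈ CohB1.genLocus _ t ∧ CohB1.genLocus _ t ≤ W ∧
      (∀ w : Z₀, w ≠ z → (w : X) ∉ CohB1.genLocus _ t) ∧ IsAffineOpen (CohB1.genLocus _ t) := by
    intro z
    let V : X.Opens := ⟨(⋃ w : {w : Z₀ // w ≠ z}, closure {(w.1 : X)})ᶜ,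
      (isClosed_iUnion_of_finite fun _ => isClosed_closure).isOpen_compl⟩
    have hzV : (z : X) ∈ W ⊓ V := ⟨hZW z.2.1, fun h => by
      obtain ⟨w, hw⟩ := Set.mem_iUnion.mp h
      exact w.2 (Subtype.ext (w.1.2.2 z z.2.1 (specializes_iff_mem_closure.mpr hw)).symm)⟩
    obtain ⟨t, h1, h2, h3⟩ := exists_mem_le_of_isQuasiAffine hL hzV
    exact ⟨t, h1, h2.trans inf_le_left, fun w hw h =>
      (h2 h).2 (Set.mem_iUnion.mpr ⟨⟨w, hw⟩, subset_closure rfl⟩), h3⟩
  choose t hzt htW hw ht using key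
  refine ⟨∑ z, t z, isAffineOpen_genLocus_sum _ hL ht, fun z hz => ?_,
    (genLocus_sum_le _ hL).trans (iSup_le htW)⟩
  obtain ⟨w, hw₀, hzw⟩ := hmax z hz
  exact hzw.mem_open (CohB1.genLocus _ _).2 (mem_genLocus_sum _ hL (j := ⟨w, hw₀⟩) (hzt ⟨w, hw₀⟩)
    fun i hi => hw i ⟨w, hw₀⟩ (Ne.symm hi))

end TMul
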