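import Mathlib

/-! # quasi-affine schemes of finite type embed in affine space -/

set_option backward.isDefEq.respectTransparency false

universe u

open CategoryTheory CategoryTheory.Limits AlgebraicGeometry

namespace Groth.Agent.QA

theorem exists_immersion_affineSpace {X S : Scheme.{u}} (π : X ⟶ S)
    [LocallyOfFiniteType π] [X.IsQuasiAffine] :
    ∃ (n : ℕ) (i : X ⟶ 𝔸(ULift.{u} (Fin n); S)),
      IsImmersion i ∧ i ≫ (𝔸(ULift.{u} (Fin n); S) ↘ S) = π := by
  classical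
  have hloc : ∀ x : X, ∃ (V : S.Opens) (r : Γ(X, ⊤)), IsAffineOpen V ∧ IsAffineOpen (X.basicOpen r) ∧
      x ∈ X.basicOpen r ∧ X.basicOpen r ≤ π ⁻¹ᵁ V := fun x ↦ by
    obtain ⟨V, hV, hx, -⟩ := exists_isAffineOpen_mem_and_subset (U := ⊤)
      (show π x ∈ (⊤ : S.Opens) from trivial)
    obtain ⟨_, ⟨_, ⟨r, hr, rfl⟩, rfl⟩, hxr, hrV⟩ :=
      (Scheme.IsQuasiAffine.isBasis_basicOpen X).exists_subset_of_mem_open
        (show x ∈ π ⁻¹ᵁ V from hx) (π ⁻¹ᵁ V).2
    exact ⟨V, r, hV, hr, hxr, hrV⟩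
  choose V r hV hr hxr hrV using hloc
  obtain ⟨T, hT⟩ := isCompact_univ.elim_finite_subcover (fun x ↦ (X.basicOpen (r x) : Set X))
    (fun x ↦ (X.basicOpen (r x)).2) (fun x _ ↦ Set.mem_iUnion.mpr ⟨x, hxr x⟩)
  let ρ : ∀ x, Γ(X, ⊤) ⟶ Γ(X, X.basicOpen (r x)) := fun x ↦ X.presheaf.map (homOfLE le_top).op
  have hgen : ∀ x : X, ∃ s : Finset Γ(X, ⊤),
      Subring.closure (Set.range (π.appLE (V x) (X.basicOpen (r x)) (hrV x)) ∪ ρ x '' s ∪
        {b | b * ρ x (r x) = 1}) = ⊤ := by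
    intro x
    have hft := Scheme.Hom.finiteType_appLE π (hV x) (hr x) (hrV x)
    algebraize [(π.appLE (V x) (X.basicOpen (r x)) (hrV x)).hom]
    have hft' : Algebra.FiniteType Γ(S, V x) Γ(X, X.basicOpen (r x)) := hft
    obtain ⟨s, hs⟩ := hft'.out
    have := isLocalization_basicOpen_of_qcqs (X := X) isCompact_univ isQuasiSeparated_univ (r x)
    choose c hc using fun b : Γ(X, X.basicOpen (r x)) ↦
      IsLocalization.surj (Submonoid.powers (r x)) b
    refine ⟨s.image fun b ↦ (c b).1, eq_top_iff.mpr fun b _ ↦ ?_⟩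
    have hb : b ∈ Algebra.adjoin Γ(S, V x) (s : Set Γ(X, X.basicOpen (r x))) := by
      rw [hs]; trivial
    induction hb using Algebra.adjoin_induction with
    | mem b hb =>
      obtain ⟨k, hk⟩ := (c b).2.2
      have h1 : b * (ρ x (r x)) ^ k = ρ x (c b).1 := by
        have := hc b
        rw [show ((c b).2 : Γ(X, ⊤)) = r x ^ k from hk.symm, map_pow] at this
        exact this
      obtain ⟨w, hw⟩ : ∃ w, w * ρ x (r x) = 1 :=
        (RingedSpace.isUnit_res_basicOpen (X := X.toLocallyRingedSpace.toRingedSpace) (r x)).exists_left_inv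
      have h2 : b = ρ x (c b).1 * w ^ k := by
        rw [← h1, mul_assoc, ← mul_pow, mul_comm (ρ x (r x)) w, hw, one_pow, mul_one]
      rw [h2]
      refine mul_mem (Subring.subset_closure (Or.inl (Or.inr ⟨(c b).1, ?_, rfl⟩)))
        (pow_mem (Subring.subset_closure ?_) k)
      · exact Finset.mem_image_of_mem _ hb
      · exact Or.inr hw
    | algebraMap b => exact Subring.subset_closure (Or.inl (Or.inl ⟨b, rfl⟩))
    | add _ _ _ _ h h' => exact add_mem (h trivial) (h' trivial)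
    | mul _ _ _ _ h h' => exact mul_mem (h trivial) (h' trivial)
  choose s hs using hgen
  let κ := ↥T ⊕ (Σ x : ↥T, ↥(s x.1))
  let val : κ → Γ(X, ⊤) := Sum.elim (fun x ↦ r x.1) (fun a ↦ a.2.1)
  let e : ULift.{u} (Fin (Fintype.card κ)) ≃ κ := Equiv.ulift.trans (Fintype.equivFin κ).symm
  let A := 𝔸(ULift.{u} (Fin (Fintype.card κ)); S)
  let i : X ⟶ A := AffineSpace.homOfVector π (val ∘ e)
  have hi : i ≫ (A ↘ S) = π := AffineSpace.homOfVector_over _ _
  have hcoord : ∀ a : κ, i.appTop (AffineSpace.coord S (e.symm a)) = val a := fun a ↦ by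
    rw [AffineSpace.homOfVector_appTop_coord]
    simp
  refine ⟨Fintype.card κ, i, ?_, hi⟩
  let O : ↥T → A.Opens := fun x ↦
    (A ↘ S) ⁻¹ᵁ V x.1 ⊓ A.basicOpen (AffineSpace.coord S (e.symm (Sum.inl x)))
  have hOa : ∀ x, IsAffineOpen (O x) := fun x ↦ by
    have h := ((hV x.1).preimage (A ↘ S)).basicOpen
      (A.presheaf.map (homOfLE le_top).op (AffineSpace.coord S (e.symm (Sum.inl x))))
    rwa [Scheme.basicOpen_res] at h
  have hpre : ∀ x : ↥T, i ⁻¹ᵁ O x = X.basicOpen (r x.1) := fun x ↦ by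
    rw [Scheme.Hom.preimage_inf, ← Scheme.Hom.comp_preimage, hi, Scheme.preimage_basicOpen_top, hcoord]
    exact inf_eq_right.mpr (hrV x.1)
  let W : A.Opens := ⨆ x, O x
  have hW : Set.range i ⊆ (W : Set A) := by
    rintro _ ⟨z, rfl⟩
    obtain ⟨x, hx, hz⟩ : ∃ x ∈ T, z ∈ X.basicOpen (r x) := by simpa using hT (Set.mem_univ z)
    have : z ∈ i ⁻¹ᵁ O ⟨x, hx⟩ := (hpre ⟨x, hx⟩).symm ▸ hz
    exact TopologicalSpace.Opens.mem_iSup.mpr ⟨⟨x, hx⟩, this⟩
  let i' := IsOpenImmersion.lift W.ι i (by rwa [Scheme.Opens.range_ι])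
  have hi' : i' ≫ W.ι = i := IsOpenImmersion.lift_fac _ _ _
  have : IsClosedImmersion i' := by
    refine (IsZariskiLocalAtTarget.iff_of_iSup_eq_top (P := @IsClosedImmersion)
      (fun x : ↥T ↦ W.ι ⁻¹ᵁ O x) ?_).mpr fun x ↦ ?_
    · refine eq_top_iff.mpr fun w _ ↦ ?_
      obtain ⟨x, hx⟩ := TopologicalSpace.Opens.mem_iSup.mp (show w.1 ∈ ⨆ x, O x from w.2)
      exact TopologicalSpace.Opens.mem_iSup.mpr ⟨x, hx⟩
    have hOW : W.ι ''ᵁ (W.ι ⁻¹ᵁ O x) = O x := by
      rw [Scheme.Hom.image_preimage_eq_opensRange_inf, Scheme.Opens.opensRange_ι]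
      exact inf_eq_right.mpr (le_iSup O x)
    have haO : IsAffineOpen (W.ι ⁻¹ᵁ O x) :=
      (Scheme.Hom.isAffineOpen_iff_of_isOpenImmersion W.ι).mp (hOW.symm ▸ hOa x)
    have hpre' : i' ⁻¹ᵁ (W.ι ⁻¹ᵁ O x) = X.basicOpen (r x.1) := by
      rw [← Scheme.Hom.comp_preimage, hi', hpre]
    have : IsAffine (W.ι ⁻¹ᵁ O x).toScheme := haO
    have : IsAffine (i' ⁻¹ᵁ (W.ι ⁻¹ᵁ O x)).toScheme := hpre'.symm ▸ hr x.1
    refine IsClosedImmersion.of_surjective_of_isAffine _ ?_
    suffices hsurj : Function.Surjective (i.appLE (O x) (X.basicOpen (r x.1)) (hpre x).ge) by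
      suffices h2 : ∀ P (h : P ≤ i' ⁻¹ᵁ (W.ι ⁻¹ᵁ O x)), P = X.basicOpen (r x.1) →
          Function.Surjective (i'.appLE (W.ι ⁻¹ᵁ O x) P h) by
        rw [morphismRestrict_appTop]
        intro y
        have hiso : IsIso (X.presheaf.map (eqToHom (image_morphismRestrict_preimage i' (W.ι ⁻¹ᵁ O x) ⊤)).op) :=
          inferInstance
        obtain ⟨z, hz⟩ := (ConcreteCategory.bijective_of_isIso (C := CommRingCat)
          (X.presheaf.map (eqToHom (image_morphismRestrict_preimage i' (W.ι ⁻¹ᵁ O x) ⊤)).op)).2 y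
        have h3 : ∀ Q, Q = W.ι ⁻¹ᵁ O x → Function.Surjective (i'.app Q) := by
          rintro _ rfl
          rw [Scheme.Hom.app_eq_appLE]
          exact h2 _ le_rfl hpre'
        obtain ⟨z', hz'⟩ := h3 _ (Scheme.Opens.ι_image_top _) z
        exact ⟨z', (congrArg _ hz').trans hz⟩
      rintro _ h rfl c
      obtain ⟨z, hz⟩ := hsurj c
      refine ⟨W.ι.appLE (O x) (W.ι ⁻¹ᵁ O x) le_rfl z, ?_⟩
      rw [← hz, ← CommRingCat.comp_apply, Scheme.Hom.appLE_comp_appLE]
      simp only [hi']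
    intro b
    have hb : b ∈ (⊤ : Subring Γ(X, X.basicOpen (r x.1))) := trivial
    rw [← hs x.1] at hb
    refine (Subring.closure_le (t := (i.appLE (O x) (X.basicOpen (r x.1)) (hpre x).ge).hom.range)).mpr
      ?_ hb
    have hsec : ∀ a : κ, ρ x.1 (val a) = i.appLE (O x) (X.basicOpen (r x.1)) (hpre x).ge
        (A.presheaf.map (homOfLE le_top).op (AffineSpace.coord S (e.symm a))) := fun a ↦ by
      rw [← hcoord a]
      show (i.appTop ≫ ρ x.1) _ = (_ ≫ i.appLE _ _ _) _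
      rw [Scheme.Hom.map_appLE]
      rfl
    rintro b' ((⟨t, rfl⟩ | ⟨a, ha, rfl⟩) | hb')
    · refine ⟨(A ↘ S).appLE (V x.1) (O x) inf_le_left t, ?_⟩
      show (_ ≫ i.appLE _ _ _) t = _
      rw [Scheme.Hom.appLE_comp_appLE]
      simp only [hi]
    · exact ⟨_, (hsec (Sum.inr ⟨x, a, ha⟩)).symm⟩
    · obtain ⟨w, hw⟩ : ∃ w, w * A.presheaf.map (homOfLE (le_top : O x ≤ ⊤)).op
          (AffineSpace.coord S (e.symm (Sum.inl x))) = 1 := by
        refine IsUnit.exists_left_inv ?_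
        have hu : IsUnit (A.presheaf.map (homOfLE (le_top :
            A.basicOpen (AffineSpace.coord S (e.symm (Sum.inl x))) ≤ ⊤)).op
              (AffineSpace.coord S (e.symm (Sum.inl x)))) :=
          RingedSpace.isUnit_res_basicOpen (X := A.toLocallyRingedSpace.toRingedSpace) _
        have := hu.map (A.presheaf.map (homOfLE (inf_le_right : O x ≤ _)).op).hom
        rwa [← CommRingCat.comp_apply, ← Functor.map_comp] at this
      refine ⟨w, ?_⟩
      have h1 : i.appLE (O x) (X.basicOpen (r x.1)) (hpre x).ge w * ρ x.1 (r x.1) = 1 := by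
        refine (congrArg (_ * ·) (hsec (Sum.inl x))).trans ?_
        rw [← map_mul, hw, map_one]
      exact left_inv_eq_right_inv h1 (by rw [mul_comm]; exact hb')
  have : IsImmersion (i' ≫ W.ι) := inferInstance
  rwa [hi'] at this

end Groth.Agent.QA
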