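import Groth.Agent.QA.IndQA
import Groth.Agent.QA.Props
import Mathlib

/-! # ind-quasi-affine morphisms: criterion, flat descent -/

set_option backward.isDefEq.respectTransparency false

universe u

open CategoryTheory CategoryTheory.Limits AlgebraicGeometry TopologicalSpace

namespace Groth.Agent.QA.IndQA

variable {X Y : Scheme.{u}} {f : X ⟶ Y}

theorem iff_forall_resLE : MoreMor.IsIndQuasiAffineHom f ↔ ∀ (V : Y.Opens), IsCompact (V : Set ↑Y) →
    IsQuasiSeparated (V : Set ↑Y) → ∀ (U : X.Opens) (hUV : U ≤ f ⁻¹ᵁ V), IsCompact (U : Set ↑X) →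
      MoreMor.IsQuasiAffineHom (f.resLE V U hUV) := by
  refine ⟨fun h V hV hV' U hUV hU ↦ ?_, fun h V hV U hU ↦ ?_⟩
  · have : CompactSpace U.toScheme := isCompact_iff_compactSpace.mp hU
    have : QuasiSeparatedSpace V.toScheme :=
      (isQuasiSeparated_iff_quasiSeparatedSpace _ V.2).mp hV'
    have hq : QuasiCompact (f.resLE V U hUV) := inferInstance
    refine ⟨hq, fun V' hV'' ↦ ?_⟩
    let W := (f.resLE V U hUV) ⁻¹ᵁ V'
    have hW : IsCompact (W : Set U.toScheme) :=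
      QuasiCompact.isCompact_preimage (f := f.resLE V U hUV) _ V'.2 hV''.isCompact
    have : CompactSpace W.toScheme := isCompact_iff_compactSpace.mp hW
    let A : Y.Opens := V.ι ''ᵁ V'
    let j : W.toScheme ⟶ (f ⁻¹ᵁ A).toScheme := IsOpenImmersion.lift (f ⁻¹ᵁ A).ι (W.ι ≫ U.ι) (by
      rw [Scheme.Opens.range_ι]
      rintro _ ⟨w, rfl⟩
      exact ⟨_, w.2, congr($(f.resLE_comp_ι hUV) w.1)⟩)
    have : IsOpenImmersion j := by
      have : IsOpenImmersion (j ≫ (f ⁻¹ᵁ A).ι) := by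
        rw [IsOpenImmersion.lift_fac]; infer_instance
      exact IsOpenImmersion.of_comp j (f ⁻¹ᵁ A).ι
    have := of_isOpenImmersion (h A (hV''.image_of_isOpenImmersion V.ι)) j ⊤ isCompact_univ
    exact .of_isImmersion W.toScheme.topIso.inv
  · have hU' : IsCompact (((f ⁻¹ᵁ V).ι ''ᵁ U : X.Opens) : Set X) := hU.image (f ⁻¹ᵁ V).ι.continuous
    have hUV : (f ⁻¹ᵁ V).ι ''ᵁ U ≤ f ⁻¹ᵁ V := by rintro _ ⟨w, -, rfl⟩; exact w.2
    have h1 := h V hV.isCompact hV.isQuasiSeparated _ hUV hU'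
    have : IsAffine V.toScheme := hV
    have := h1.2 ⊤ (isAffineOpen_top _)
    have : CompactSpace U.toScheme := isCompact_iff_compactSpace.mp hU
    let j : U.toScheme ⟶ (f.resLE V ((f ⁻¹ᵁ V).ι ''ᵁ U) hUV ⁻¹ᵁ (⊤ : V.toScheme.Opens)).toScheme :=
      ((f ⁻¹ᵁ V).ι.isoImage U).hom ≫ ((f ⁻¹ᵁ V).ι ''ᵁ U).toScheme.topIso.inv
    exact .of_isImmersion j

theorem descend {X' Y' : Scheme.{u}} (f : X ⟶ Y) (f' : X' ⟶ Y') (g' : X' ⟶ X) (g : Y' ⟶ Y)
    [Flat g] [Surjective g] [QuasiCompact g] (hc : IsPullback g' f' f g)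
    (hf' : MoreMor.IsIndQuasiAffineHom f') : MoreMor.IsIndQuasiAffineHom f := by
  have hg : (@Surjective ⊓ @Flat ⊓ @QuasiCompact : MorphismProperty Scheme.{u}) g :=
    ⟨⟨‹_›, ‹_›⟩, ‹_›⟩
  have := quasiSeparated hf'
  have : QuasiSeparated f :=
    MorphismProperty.of_isPullback_of_descendsAlong hc.flip hg ‹QuasiSeparated f'›
  intro V hV U hU
  have : IsAffine V.toScheme := hV
  have : CompactSpace U.toScheme := isCompact_iff_compactSpace.mp hU
  let r : U.toScheme ⟶ V.toScheme := U.ι ≫ f ∣_ V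
  have : QuasiCompact r := by rw [quasiCompact_iff_compactSpace]; infer_instance
  let gV := g ∣_ V
  have : Surjective gV := MorphismProperty.of_isPullback (P := @Surjective)
    (isPullback_morphismRestrict g V).flip ‹_›
  have : Flat gV := MorphismProperty.of_isPullback (P := @Flat)
    (isPullback_morphismRestrict g V).flip ‹_›
  have : QuasiCompact gV := MorphismProperty.of_isPullback (P := @QuasiCompact)
    (isPullback_morphismRestrict g V).flip ‹_›
  let C := pullback r gV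
  let m : C ⟶ pullback f g := pullback.map _ _ _ _ (U.ι ≫ (f ⁻¹ᵁ V).ι) (g ⁻¹ᵁ V).ι V.ι
    (by simp only [r, Category.assoc, morphismRestrict_ι]) (morphismRestrict_ι g V)
  let m' : C ⟶ X' := m ≫ hc.isoPullback.inv
  have hm' : m' ≫ f' = pullback.snd r gV ≫ (g ⁻¹ᵁ V).ι := by
    simp [m', m]
  have hqa : Mor2.IsQuasiAffine (pullback.snd r gV) := by
    refine ⟨inferInstance, fun V' hV' ↦ ?_⟩
    let W := pullback.snd r gV ⁻¹ᵁ V'
    have hW : IsCompact (W : Set C) :=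
      QuasiCompact.isCompact_preimage (f := pullback.snd r gV) _ V'.2 hV'.isCompact
    have : CompactSpace W.toScheme := isCompact_iff_compactSpace.mp hW
    let A : Y'.Opens := (g ⁻¹ᵁ V).ι ''ᵁ V'
    let j : W.toScheme ⟶ (f' ⁻¹ᵁ A).toScheme := IsOpenImmersion.lift (f' ⁻¹ᵁ A).ι (W.ι ≫ m') (by
      rw [Scheme.Opens.range_ι]
      rintro _ ⟨w, rfl⟩
      exact ⟨_, w.2, congr($hm' w.1).symm⟩)
    have : IsOpenImmersion j := by
      have : IsOpenImmersion (j ≫ (f' ⁻¹ᵁ A).ι) := by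
        rw [IsOpenImmersion.lift_fac]; infer_instance
      exact IsOpenImmersion.of_comp j (f' ⁻¹ᵁ A).ι
    have := of_isOpenImmersion (hf' A (hV'.image_of_isOpenImmersion (g ⁻¹ᵁ V).ι)) j ⊤ isCompact_univ
    exact .of_isImmersion W.toScheme.topIso.inv
  have hgV : (@Surjective ⊓ @Flat ⊓ @QuasiCompact : MorphismProperty Scheme.{u}) gV :=
    ⟨⟨‹_›, ‹_›⟩, ‹_›⟩
  have h2 : Mor2.IsQuasiAffine r := QA.descendsAlong.of_isPullback
    (IsPullback.of_hasPullback r gV).flip hgV hqa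
  have := h2.2 ⊤ (isAffineOpen_top _)
  exact .of_isImmersion (U.toScheme.topIso.inv ≫
    (U.toScheme.isoOfEq (show (⊤ : U.toScheme.Opens) = r ⁻¹ᵁ ⊤ from rfl)).hom)

end Groth.Agent.QA.IndQA
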